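import Groth.Agent.CotT.Smooth
import Groth.Agent.SerreReg.MiracleFinite
import Mathlib

/-! `T²` of a reduced algebra over a perfect base is `Ext¹` of the conormal module. -/

open TensorProduct CategoryTheory

noncomputable section

namespace Groth.Agent.CotTExt

open _root_.CotT Groth.Agent.CotT

universe u

attribute [local instance] relKerGroup

set_option maxHeartbeats 2000000
set_option maxSynthPendingDepth 3

variable {k B : Type u} [Field k] [CommRing B] [Algebra k B] {ι σ : Type u} [Finite ι]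
  (P : Algebra.Presentation k B ι σ)

/-- At a minimal prime of a reduced ring a relation with coefficients in the ideal becomes trivial. -/
theorem exists_smul_eq_zero [IsReduced B] (η : Ideal B) (hη : η ∈ minimalPrimes B) {z : L2 P} (hz : d2 P z = 0) :
    ∃ b ∉ η, b • z = 0 := by
  have hηp : η.IsPrime := hη.1.1
  let R := P.toExtension.Ring
  let f := algebraMap R B
  let Q : Ideal R := η.comap f
  haveI : Q.IsPrime := Ideal.comap_isPrime f η
  haveI : IsRegularRing R := inferInstanceAs (IsRegularRing (MvPolynomial ι k))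
  let T := Localization.AtPrime Q
  haveI : IsRegularLocalRing T := IsRegularRing.isRegularLocalRing_localization Q
  have hker : P.toExtension.ker ≤ Q := fun x hx => by
    show f x ∈ η
    rw [show f x = 0 from hx]; exact zero_mem _
  have hmap : P.toExtension.ker.map (algebraMap R T) = IsLocalRing.maximalIdeal T := by
    refine le_antisymm ((Ideal.map_mono hker).trans (Localization.AtPrime.map_eq_maximalIdeal (I := Q)).le) ?_
    rw [← Localization.AtPrime.map_eq_maximalIdeal, Ideal.map_le_iff_le_comap]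
    intro a ha
    -- a reduced ring is a field at a minimal prime
    have h1 : algebraMap B (Localization.AtPrime η) (f a) = 0 := by
      have h2 : algebraMap B (Localization.AtPrime η) (f a) ∈ nilradical (Localization.AtPrime η) := by
        rw [nilradical, Ideal.radical_eq_sInf]
        refine Ideal.mem_sInf.2 fun J hJ => ?_
        haveI := hJ.2
        have hJle : J.comap (algebraMap B (Localization.AtPrime η)) ≤ η :=
          (Ideal.comap_mono (IsLocalRing.le_maximalIdeal hJ.2.ne_top)).trans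
            (IsLocalization.AtPrime.comap_maximalIdeal (Localization.AtPrime η) η).le
        exact hη.2 ⟨inferInstance, bot_le⟩ hJle (show f a ∈ η from ha)
      exact (mem_nilradical.1 h2).eq_zero
    obtain ⟨⟨b, hb⟩, hba⟩ := (IsLocalization.map_eq_zero_iff η.primeCompl _ _).1 h1
    obtain ⟨r, rfl⟩ := algebraMap_surjective P b
    have h3 : algebraMap R T (r * a) ∈ P.toExtension.ker.map (algebraMap R T) :=
      Ideal.mem_map_of_mem _ (show f (r * a) = 0 by rw [map_mul]; exact hba)
    rw [map_mul] at h3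
    exact (Ideal.unit_mul_mem_iff_mem _ (IsLocalization.map_units T (⟨r, hb⟩ : Q.primeCompl))).1 h3
  obtain ⟨d, hd⟩ : ∃ d : ℕ, ringKrullDim T = d := ⟨_, IsRegularLocalRing.spanFinrank_maximalIdeal.symm⟩
  obtain ⟨rs, -, hreg, hspan⟩ := Groth.Agent.SerreReg.exists_regular_rsop d T hd
  obtain ⟨q, rfl⟩ := mkL2_surjective P z
  rw [d2_mkL2] at hz
  have hI : ∀ s, (q : relMod P) s ∈ P.toExtension.ker := fun s => one_tmul_eq_zero_imp P hz s
  set φ := algebraMap R T
  have hlc : ∀ a : relMod P, Finsupp.linearCombination T (fun s => φ (rel P s))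
      (Finsupp.mapRange φ (map_zero _) a) = φ (Finsupp.linearCombination R (rel P) a) := fun a => by
    induction a using Finsupp.induction_linear with
    | zero => simp
    | add a a' ha ha' => rw [Finsupp.mapRange_add (map_add _), map_add, map_add, map_add, ha, ha']
    | single i c => simp
  have hrange : Set.range (fun i : Fin rs.length => rs.get i) = {x | x ∈ rs} := by
    ext x
    simp [List.mem_iff_get]
  have hspan' : Ideal.span (Set.range fun s => φ (rel P s)) = Ideal.span (Set.range fun i : Fin rs.length => rs.get i) := by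
    rw [hrange]
    refine Eq.trans ?_ ((hmap.trans hspan.symm).trans rfl)
    have hs : Ideal.span (Set.range (rel P)) = P.toExtension.ker := P.span_range_relation_eq_ker
    rw [← hs, Ideal.map_span, ← Set.range_comp]
    rfl
  have h1 := mem_trivOf_of_wreg (fun s => φ (rel P s)) _ (isWReg_of_list rs hreg) hspan'
    (Finsupp.mapRange φ (map_zero _) (q : relMod P))
    (by rw [hlc, show Finsupp.linearCombination R (rel P) (q : relMod P) = 0 from q.2, map_zero])
    (fun s => by
      rw [Finsupp.mapRange_apply, hrange, show Ideal.span {x | x ∈ rs} = Ideal.ofList rs from rfl, hspan, ← hmap]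
      exact Ideal.mem_map_of_mem _ (hI s))
  obtain ⟨s, hs, h2⟩ := exists_smul_mem_trivOf Q.primeCompl (rel P) (q : relMod P) h1
  exact ⟨f s, hs, by rw [← mkL2_smul]; exact (mkL2_eq_zero_iff P (s • q)).2 h2⟩

theorem apply_eq_zero_of_d2 [IsReduced B] (g : L2 P →ₗ[B] B) {z : L2 P} (hz : d2 P z = 0) : g z = 0 := by
  refine IsNilpotent.eq_zero (mem_nilradical.1 ?_)
  rw [nilradical_eq_sInf B, Ideal.mem_sInf]
  intro J hJ
  haveI : J.IsPrime := hJ
  obtain ⟨η, hη, hηJ⟩ := Ideal.exists_minimalPrimes_le (show (⊥ : Ideal B) ≤ J from bot_le)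
  obtain ⟨b, hb, hbz⟩ := exists_smul_eq_zero P η hη hz
  refine hηJ ((hη.1.1.mem_or_mem ?_).resolve_left hb)
  rw [← smul_eq_mul, ← map_smul, hbz, map_zero]
  exact zero_mem _

/-- `d₂` onto the kernel of `L₁ → I/I²`. -/
def toKer : L2 P →ₗ[B] LinearMap.ker (toCot P) := (d2 P).codRestrict _ (d2_mem_ker P)

omit [Finite ι] in
theorem toKer_surjective : Function.Surjective (toKer P) := fun x => by
  obtain ⟨z, hz⟩ := toCot_eq_zero P (LinearMap.mem_ker.1 x.2)
  exact ⟨z, Subtype.ext hz⟩

theorem exists_descend [IsReduced B] (g : L2 P →ₗ[B] B) : ∃ h : LinearMap.ker (toCot P) →ₗ[B] B, h ∘ₗ toKer P = g := by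
  have hle : LinearMap.ker (toKer P) ≤ LinearMap.ker g := fun z hz =>
    apply_eq_zero_of_d2 P g (congrArg Subtype.val (LinearMap.mem_ker.1 hz))
  let e := LinearMap.quotKerEquivOfSurjective (toKer P) (toKer_surjective P)
  refine ⟨((LinearMap.ker (toKer P)).liftQ g hle).comp e.symm.toLinearMap, LinearMap.ext fun x => ?_⟩
  have : e.symm (toKer P x) = Submodule.Quotient.mk x := by rw [LinearEquiv.symm_apply_eq]; rfl
  simp [this]

/-- the conormal sequence. -/
abbrev seq : ShortComplex (ModuleCat.{u} B) :=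
  ShortComplex.mk (X₁ := ModuleCat.of B (LinearMap.ker (toCot P))) (X₂ := ModuleCat.of B (L1 P))
    (X₃ := ModuleCat.of B P.toExtension.Cotangent) (ModuleCat.ofHom (LinearMap.ker (toCot P)).subtype) (ModuleCat.ofHom (toCot P)) (ModuleCat.hom_ext (LinearMap.ext fun x => LinearMap.mem_ker.1 x.2))

omit [Finite ι] in
theorem seq_shortExact : (seq P).ShortExact :=
  { exact := (ShortComplex.moduleCat_exact_iff _).2 fun x hx => ⟨⟨x, hx⟩, rfl⟩
    mono_f := (ModuleCat.mono_iff_injective _).2 (LinearMap.ker (toCot P)).subtype_injective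
    epi_g := (ModuleCat.epi_iff_surjective _).2 (toCot_surjective P) }

/-- connecting map. -/
def conn : (LinearMap.ker (toCot P) →ₗ[B] B) →ₗ[B]
    Abelian.Ext (ModuleCat.of B P.toExtension.Cotangent) (ModuleCat.of B B) 1 where
  toFun h := (seq_shortExact P).extClass.comp (Abelian.Ext.mk₀ (ModuleCat.ofHom h)) (add_zero 1)
  map_add' x y := by
    rw [ModuleCat.ofHom_add, Abelian.Ext.mk₀_add, Abelian.Ext.comp_add]
  map_smul' c x := by
    rw [RingHom.id_apply, ← Abelian.Ext.comp_smul, ← Abelian.Ext.mk₀_smul]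
    rfl

omit [Finite ι] in
theorem conn_surjective : Function.Surjective (conn P) := by
  intro x
  haveI : Module.Projective B (L1 P) := Module.Projective.of_basis (L1basis P)
  haveI : Projective (seq P).X₂ := (IsProjective.iff_projective (L1 P)).1 inferInstance
  obtain ⟨x₁, hx₁⟩ := Abelian.Ext.contravariant_sequence_exact₃ (seq_shortExact P) (ModuleCat.of B B) x
    (Abelian.Ext.eq_zero_of_projective _) (add_zero 1)
  obtain ⟨φ, rfl⟩ := Abelian.Ext.addEquiv₀.symm.surjective x₁
  exact ⟨φ.hom, hx₁⟩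

omit [Finite ι] in
theorem conn_eq_zero (h : LinearMap.ker (toCot P) →ₗ[B] B) :
    conn P h = 0 ↔ ∃ ψ : L1 P →ₗ[B] B, ψ ∘ₗ (LinearMap.ker (toCot P)).subtype = h := by
  constructor
  · intro hh
    obtain ⟨x₂, hx₂⟩ := Abelian.Ext.contravariant_sequence_exact₁ (seq_shortExact P) (ModuleCat.of B B)
      (Abelian.Ext.mk₀ (ModuleCat.ofHom h)) (add_zero 1) hh
    obtain ⟨φ, rfl⟩ := Abelian.Ext.addEquiv₀.symm.surjective x₂
    rw [show Abelian.Ext.addEquiv₀.symm φ = Abelian.Ext.mk₀ φ from rfl, Abelian.Ext.mk₀_comp_mk₀] at hx₂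
    exact ⟨φ.hom, congrArg ModuleCat.Hom.hom ((Abelian.Ext.mk₀_bijective _ _).1 hx₂)⟩
  · rintro ⟨ψ, rfl⟩
    show (seq_shortExact P).extClass.comp (Abelian.Ext.mk₀ ((seq P).f ≫ (ModuleCat.ofHom ψ : (seq P).X₂ ⟶ ModuleCat.of B B))) (add_zero 1) = 0
    rw [← Abelian.Ext.mk₀_comp_mk₀]
    exact (seq_shortExact P).extClass_comp_assoc _

theorem main [IsReduced B] :
    Nonempty (T2 P B ≃ₗ[B] Abelian.Ext (ModuleCat.of B P.toExtension.Cotangent) (ModuleCat.of B B) 1) := by
  have hbij : Function.Bijective (LinearMap.lcomp B B (toKer P)) :=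
    ⟨fun a b hab => LinearMap.ext fun x => by
      obtain ⟨z, rfl⟩ := toKer_surjective P x
      exact LinearMap.congr_fun hab z, fun g => exists_descend P g⟩
  let e := LinearEquiv.ofBijective _ hbij
  let Φ : (L2 P →ₗ[B] B) →ₗ[B] Abelian.Ext (ModuleCat.of B P.toExtension.Cotangent) (ModuleCat.of B B) 1 :=
    conn P ∘ₗ e.symm.toLinearMap
  have hsurj : Function.Surjective Φ := (conn_surjective P).comp e.symm.surjective
  have hker : LinearMap.range (d2Star P B) = LinearMap.ker Φ := by
    ext g
    obtain ⟨h, rfl⟩ := e.surjective g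
    rw [LinearMap.mem_ker, show Φ (e h) = conn P (e.symm (e h)) from rfl, e.symm_apply_apply, conn_eq_zero]
    constructor
    · rintro ⟨ψ, hψ⟩
      refine ⟨ψ, hbij.1 ?_⟩
      exact hψ
    · rintro ⟨ψ, rfl⟩
      exact ⟨ψ, rfl⟩
  exact ⟨(Submodule.quotEquivOfEq _ _ hker).trans (Φ.quotKerEquivOfSurjective hsurj)⟩

end Groth.Agent.CotTExt
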